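import Groth.Agent.WeilRes28.Alg
import Mathlib.RingTheory.Smooth.Basic
import Mathlib.RingTheory.FinitePresentation

/-!
# Weil restriction of finitely presented and of formally smooth algebras
-/

set_option linter.style.haveILetI false

universe u

open TensorProduct

namespace Groth.Agent.WeilRes28

variable {B B' : Type u} [CommRing B] [CommRing B'] [Algebra B B']

theorem exists_isWeilAlg_fp [Module.Finite B B'] [Module.Projective B B'] (P : Type u) [CommRing P]
    [Algebra B' P] [Algebra.FinitePresentation B' P] :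
    ∃ (A : Type u) (_ : CommRing A) (_ : Algebra B A) (univ : P →ₐ[B'] B' ⊗[B] A),
      Algebra.FinitePresentation B A ∧ IsWeilAlg univ := by
  classical
  obtain ⟨n, π, hπ, s, hs⟩ := (Algebra.FinitePresentation.out : ∃ (n : ℕ) (f : MvPolynomial (Fin n) B' →ₐ[B'] P), Function.Surjective f ∧ (RingHom.ker f.toRingHom).FG)
  obtain ⟨m, f, g, hf, -, hfg⟩ := Module.Finite.exists_comp_eq_id_of_projective B B'
  let b : Fin m → B' := fun j => f (Pi.single j 1)
  let φ : Fin m → (B' →ₗ[B] B) := fun j => (LinearMap.proj j).comp g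
  have hdec : ∀ x : B', ∑ j, φ j x • b j = x := fun x => by
    have h1 : f (g x) = x := congrArg (fun k : B' →ₗ[B] B' => k x) hfg
    conv_rhs => rw [← h1, pi_eq_sum_univ' (g x), map_sum]
    refine Finset.sum_congr rfl fun j _ => ?_
    rw [map_smul]
    rfl
  let co : ∀ (C : Type u) [CommRing C] [Algebra B C], Fin m → (B' ⊗[B] C →ₗ[B] C) := fun C _ _ j =>
    (TensorProduct.lid B C).toLinearMap.comp (LinearMap.rTensor C (φ j))
  have hco : ∀ (C : Type u) [CommRing C] [Algebra B C] (j : Fin m) (x : B') (c : C),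
      co C j (x ⊗ₜ c) = φ j x • c := fun C _ _ j x c => by simp [co]
  have hcodec : ∀ (C : Type u) [CommRing C] [Algebra B C] (d : B' ⊗[B] C),
      ∑ j, b j ⊗ₜ[B] co C j d = d := fun C _ _ d => by
    induction d using TensorProduct.induction_on with
    | zero => simp
    | tmul x c =>
      simp only [hco, ← TensorProduct.smul_tmul]
      rw [← TensorProduct.sum_tmul, hdec]
    | add x y hx hy => simp [TensorProduct.tmul_add, Finset.sum_add_distrib, hx, hy]
  have hconat : ∀ (C C₁ : Type u) [CommRing C] [Algebra B C] [CommRing C₁] [Algebra B C₁] (h : C →ₐ[B] C₁)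
      (j : Fin m) (d : B' ⊗[B] C),
      co C₁ j (Algebra.TensorProduct.map (AlgHom.id B' B') h d) = h (co C j d) := fun C C₁ _ _ _ _ h j d => by
    induction d using TensorProduct.induction_on with
    | zero => simp
    | tmul x c => simp [hco]
    | add x y hx hy => simp [hx, hy]
  let univ₀ : MvPolynomial (Fin n) B' →ₐ[B'] B' ⊗[B] (MvPolynomial (Fin n × Fin m) B) :=
    MvPolynomial.aeval fun i => ∑ j, b j ⊗ₜ[B] MvPolynomial.X (i, j)
  let rel : (Fin n × Fin m) ⊕ (Fin m × {a // a ∈ s}) → (MvPolynomial (Fin n × Fin m) B) :=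
    Sum.elim (fun p => MvPolynomial.X p - ∑ l, φ p.2 (b l) • MvPolynomial.X (p.1, l))
      (fun q => co (MvPolynomial (Fin n × Fin m) B) q.1 (univ₀ q.2.1))
  let 𝔞 : Ideal (MvPolynomial (Fin n × Fin m) B) := Ideal.span (Set.range rel)
  let q : (MvPolynomial (Fin n × Fin m) B) →ₐ[B] (MvPolynomial (Fin n × Fin m) B) ⧸ 𝔞 := Ideal.Quotient.mkₐ B 𝔞
  have hrel : ∀ r, q (rel r) = 0 := fun r =>
    Ideal.Quotient.eq_zero_iff_mem.2 (Ideal.subset_span ⟨r, rfl⟩)
  let θ : MvPolynomial (Fin n) B' →ₐ[B'] B' ⊗[B] ((MvPolynomial (Fin n × Fin m) B) ⧸ 𝔞) :=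
    (Algebra.TensorProduct.map (AlgHom.id B' B') q).comp univ₀
  have hθ' : ∀ a ∈ s, θ a = 0 := by
    intro a ha
    rw [← hcodec _ (θ a)]
    refine Finset.sum_eq_zero fun j _ => ?_
    rw [show θ a = Algebra.TensorProduct.map (AlgHom.id B' B') q (univ₀ a) from rfl, hconat,
      show q (co (MvPolynomial (Fin n × Fin m) B) j (univ₀ a)) = 0 from hrel (Sum.inr (j, ⟨a, ha⟩)), TensorProduct.tmul_zero]
  have hθ : ∀ a ∈ RingHom.ker π, θ a = 0 := fun a ha => by
    have hle : RingHom.ker π.toRingHom ≤ RingHom.ker θ.toRingHom := by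
      rw [← hs, Ideal.span_le]
      exact fun a ha => hθ' a ha
    exact hle ha
  let univ : P →ₐ[B'] B' ⊗[B] ((MvPolynomial (Fin n × Fin m) B) ⧸ 𝔞) :=
    (Ideal.Quotient.liftₐ _ θ hθ).comp (Ideal.quotientKerAlgEquivOfSurjective hπ).symm.toAlgHom
  have huniv : ∀ a, univ (π a) = θ a := fun a => by
    have : (Ideal.quotientKerAlgEquivOfSurjective hπ).symm (π a) = Ideal.Quotient.mk _ a := by
      rw [AlgEquiv.symm_apply_eq]
      rfl
    show Ideal.Quotient.liftₐ _ θ hθ ((Ideal.quotientKerAlgEquivOfSurjective hπ).symm (π a)) = θ a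
    rw [this]
    rfl
  refine ⟨(MvPolynomial (Fin n × Fin m) B) ⧸ 𝔞, inferInstance, inferInstance, univ, Algebra.FinitePresentation.quotient ⟨(Set.finite_range rel).toFinset, by rw [Set.Finite.coe_toFinset]⟩, fun C _ _ => ⟨?_, fun g₀ => ?_⟩⟩
  · intro h₁ h₂ h
    refine Ideal.Quotient.algHom_ext B (MvPolynomial.algHom_ext fun p => ?_)
    obtain ⟨i, j⟩ := p
    have key : ∀ k : ((MvPolynomial (Fin n × Fin m) B) ⧸ 𝔞) →ₐ[B] C,
        co C j ((Algebra.TensorProduct.map (AlgHom.id B' B') k).comp univ (π (MvPolynomial.X i))) =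
          k (q (MvPolynomial.X (i, j))) := by
      intro k
      show co C j (Algebra.TensorProduct.map (AlgHom.id B' B') k (univ (π (MvPolynomial.X i)))) = _
      rw [huniv, hconat]
      congr 1
      rw [show θ (MvPolynomial.X i) = Algebra.TensorProduct.map (AlgHom.id B' B') q
        (univ₀ (MvPolynomial.X i)) from rfl, hconat]
      have h0 := hrel (Sum.inl (i, j))
      simp only [rel, Sum.elim_inl, map_sub, sub_eq_zero] at h0
      rw [h0]
      simp [univ₀, hco]
    show h₁ (q _) = h₂ (q _)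
    rw [← key h₁, ← key h₂]
    exact congrArg (fun k : P →ₐ[B'] B' ⊗[B] C => co C j (k (π (MvPolynomial.X i)))) h
  · let h₀ : (MvPolynomial (Fin n × Fin m) B) →ₐ[B] C := MvPolynomial.aeval fun p => co C p.2 (g₀ (π (MvPolynomial.X p.1)))
    have h₀u : (Algebra.TensorProduct.map (AlgHom.id B' B') h₀).comp univ₀ = g₀.comp π := by
      refine MvPolynomial.algHom_ext fun i => ?_
      conv_rhs => rw [AlgHom.comp_apply, ← hcodec _ (g₀ (π (MvPolynomial.X i)))]
      simp [univ₀, h₀]
    have hkill : ∀ x ∈ 𝔞, h₀ x = 0 := by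
      show 𝔞 ≤ RingHom.ker h₀
      rw [Ideal.span_le]
      rintro _ ⟨r, rfl⟩
      show h₀ (rel r) = 0
      rcases r with ⟨i, j⟩ | ⟨j, a, ha⟩
      · have e := congrArg (co C j) (hcodec C (g₀ (π (MvPolynomial.X i))))
        simp only [map_sum, hco] at e
        simp [rel, h₀, e]
      · show h₀ (co (MvPolynomial (Fin n × Fin m) B) j (univ₀ a)) = 0
        rw [← hconat, show Algebra.TensorProduct.map (AlgHom.id B' B') h₀ (univ₀ a) = g₀ (π a) from
          congrArg (fun k : MvPolynomial (Fin n) B' →ₐ[B'] B' ⊗[B] C => k a) h₀u,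
          show π a = 0 from RingHom.mem_ker.mp (hs ▸ Ideal.subset_span ha : a ∈ RingHom.ker π.toRingHom), map_zero, map_zero]
    refine ⟨Ideal.Quotient.liftₐ _ h₀ hkill, ?_⟩
    refine AlgHom.ext fun p => ?_
    obtain ⟨a, rfl⟩ := hπ p
    show Algebra.TensorProduct.map (AlgHom.id B' B') _ (univ (π a)) = g₀ (π a)
    rw [huniv, show θ a = Algebra.TensorProduct.map (AlgHom.id B' B') q (univ₀ a) from rfl, map_id_map_id,
      show (Ideal.Quotient.liftₐ 𝔞 h₀ hkill).comp q = h₀ from Ideal.Quotient.liftₐ_comp _ _ _]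
    exact congrArg (fun k : MvPolynomial (Fin n) B' →ₐ[B'] B' ⊗[B] C => k a) h₀u

/-- The Weil restriction of a formally smooth algebra is formally smooth. -/
theorem formallySmooth_weil {P A : Type u} [CommRing P] [Algebra B' P] [CommRing A] [Algebra B A]
    [Algebra.FormallySmooth B' P] (univ : P →ₐ[B'] B' ⊗[B] A) (hu : IsWeilAlg univ) :
    Algebra.FormallySmooth B A := by
  refine Algebra.FormallySmooth.of_comp_surjective fun C _ _ I hI f => ?_
  have hnil := isNilpotent_ker_map_mk (B := B) (B' := B') (I := I) ⟨2, hI⟩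
  let r := Algebra.TensorProduct.map (AlgHom.id B' B') (Ideal.Quotient.mkₐ B I)
  let g : P →ₐ[B'] B' ⊗[B] (C ⧸ I) := (Algebra.TensorProduct.map (AlgHom.id B' B') f).comp univ
  obtain ⟨a, ha⟩ := (hu C).2 (Algebra.FormallySmooth.liftOfSurjective g r (map_mk_surjective I) hnil)
  refine ⟨a, (hu (C ⧸ I)).1 (AlgHom.ext fun p => ?_)⟩
  show Algebra.TensorProduct.map (AlgHom.id B' B') ((Ideal.Quotient.mkₐ B I).comp a) (univ p) = g p
  rw [← map_id_map_id, show Algebra.TensorProduct.map (AlgHom.id B' B') a (univ p) = _ from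
    congrArg (fun k : P →ₐ[B'] B' ⊗[B] C => k p) ha]
  exact Algebra.FormallySmooth.liftOfSurjective_apply g r (map_mk_surjective I) hnil p

end Groth.Agent.WeilRes28
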